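import Mathlib
import Cfsg.Agent.Characters.Burnside
import Cfsg.Agent.S1479

/-!
Groups in which every element has order one or a prime and whose order has at most three prime
divisors: solvable when the order is odd.
-/

set_option autoImplicit false

namespace CfsgLib.PrimeOrders

universe u

/-- Every element has order one or a prime. -/
def HasPrimeOrders (G : Type*) [Group G] : Prop := ∀ g : G, g = 1 ∨ (orderOf g).Prime

theorem isSolvable_of_primeFactors_card_le_two {G : Type*} [Group G] [Finite G]
    (h : (Nat.card G).primeFactors.card ≤ 2) : Group.IsSolvable G := by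
  set n := Nat.card G with hn
  have hn0 : n ≠ 0 := Nat.card_pos.ne'
  have key : ∀ p q : ℕ, p.Prime → q.Prime → (∀ r ∈ n.primeFactors, r = p ∨ r = q) →
      Group.IsSolvable G := by
    intro p q hp hq hpq
    refine Characters.isSolvable_of_card_eq_primePow_mul p q (n.factorization p)
      (n.factorization q) hp hq ?_
    rw [← hn, ← Nat.factorization_prime_le_iff_dvd hn0 (by positivity [hp.pos, hq.pos])]
    intro r hr
    rw [Nat.factorization_mul (pow_ne_zero _ hp.ne_zero) (pow_ne_zero _ hq.ne_zero),
      hp.factorization_pow, hq.factorization_pow, Finsupp.add_apply]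
    by_cases hrn : r ∈ n.primeFactors
    · rcases hpq r hrn with rfl | rfl <;> simp
    · rw [← Nat.support_factorization, Finsupp.notMem_support_iff] at hrn
      omega
  rcases Nat.lt_or_ge n.primeFactors.card 2 with h2 | h2
  · rcases Finset.eq_empty_or_nonempty n.primeFactors with he | ⟨p, hp⟩
    · exact key 2 2 Nat.prime_two Nat.prime_two (by simp [he])
    · refine key p p (Nat.prime_of_mem_primeFactors hp) (Nat.prime_of_mem_primeFactors hp)
        fun r hr => Or.inl ?_
      exact Finset.card_le_one.1 (by omega) r hr p hp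
  · obtain ⟨p, q, hne, he⟩ := Finset.card_eq_two.1 (le_antisymm h h2)
    refine key p q (Nat.prime_of_mem_primeFactors (by rw [he]; simp))
      (Nat.prime_of_mem_primeFactors (by rw [he]; simp)) fun r hr => ?_
    rw [he] at hr
    simpa using hr

theorem HasPrimeOrders.of_injective {G H : Type*} [Group G] [Group H] (h : HasPrimeOrders G)
    (f : H →* G) (hf : Function.Injective f) : HasPrimeOrders H := by
  intro x
  rcases h (f x) with hx | hx
  · exact Or.inl (hf (hx.trans (map_one f).symm))
  · rw [orderOf_injective f hf] at hx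
    exact Or.inr hx

theorem HasPrimeOrders.of_surjective {G H : Type*} [Group G] [Group H] (h : HasPrimeOrders G)
    (f : G →* H) (hf : Function.Surjective f) : HasPrimeOrders H := by
  intro x
  obtain ⟨g, rfl⟩ := hf x
  rcases h g with hg | hg
  · exact Or.inl (by rw [hg, map_one])
  · rcases (Nat.dvd_prime hg).1 (orderOf_map_dvd f g) with h1 | h1
    · exact Or.inl (orderOf_eq_one_iff.1 h1)
    · exact Or.inr (h1 ▸ hg)

/-- In a group with all orders prime the centralizer of an element of order `p` is a `p`-group. -/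
theorem HasPrimeOrders.isPGroup_centralizer {G : Type*} [Group G] (h : HasPrimeOrders G) {g : G}
    (hg : g ≠ 1) : IsPGroup (orderOf g) (Subgroup.centralizer ({g} : Set G)) := by
  rintro ⟨x, hx⟩
  rcases eq_or_ne x 1 with rfl | hx1
  · exact ⟨0, Subtype.ext (by simp)⟩
  refine ⟨1, Subtype.ext ?_⟩
  show x ^ orderOf g ^ 1 = 1
  rw [pow_one, ← orderOf_dvd_iff_pow_eq_one]
  have hp := (h g).resolve_left hg
  have hq := (h x).resolve_left hx1
  by_contra hne
  have hcop : (orderOf x).Coprime (orderOf g) := (Nat.Prime.coprime_iff_not_dvd hq).2 hne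
  have hcomm : Commute x g := Subgroup.mem_centralizer_singleton_iff.1 hx
  rcases h (x * g) with h1 | h1
  · apply hne
    rw [mul_eq_one_iff_eq_inv.1 h1, orderOf_inv]
  · rw [hcomm.orderOf_mul_eq_mul_orderOf_of_coprime hcop] at h1
    rcases Nat.prime_mul_iff.1 h1 with ⟨-, h2⟩ | ⟨-, h2⟩
    · exact hp.ne_one h2
    · exact hq.ne_one h2

theorem HasPrimeOrders.isCNGroup {G : Type*} [Group G] [Finite G] (h : HasPrimeOrders G) :
    Cfsg.IsCNGroup G := fun g hg =>
  haveI := Fact.mk ((h g).resolve_left hg)
  (h.isPGroup_centralizer hg).isNilpotent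

/-- Elements of order dividing a prime `p` lie in one of the Sylow `p`-subgroups. -/
theorem HasPrimeOrders.card_le {G : Type*} [Group G] [Finite G] (h : HasPrimeOrders G)
    (P : (p : ℕ) → Sylow p G) :
    Nat.card G ≤
      1 + ∑ p ∈ (Nat.card G).primeFactors, Nat.card (Sylow p G) * Nat.card (P p : Subgroup G) := by
  classical
  have := Fintype.ofFinite G
  let f : ℕ → Finset G := fun p => Finset.univ.filter fun g : G => orderOf g = p
  have hsub : (Finset.univ : Finset G) ⊆ {1} ∪ (Nat.card G).primeFactors.biUnion f := by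
    intro g _
    rcases h g with hg | hg
    · simp [hg]
    · refine Finset.mem_union_right _ (Finset.mem_biUnion.2 ⟨orderOf g, ?_, by simp [f]⟩)
      exact Nat.mem_primeFactors.2 ⟨hg, orderOf_dvd_natCard g, Nat.card_pos.ne'⟩
  have h1 := (Finset.card_le_card hsub).trans
    ((Finset.card_union_le _ _).trans (Nat.add_le_add_left Finset.card_biUnion_le _))
  rw [Finset.card_univ, ← Nat.card_eq_fintype_card, Finset.card_singleton] at h1
  refine h1.trans (Nat.add_le_add_left (Finset.sum_le_sum fun p hp => ?_) _)
  have := Fact.mk (Nat.prime_of_mem_primeFactors hp)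
  have hc : ∀ Q : Sylow p G, Nat.card (Q : Subgroup G) = Nat.card (P p : Subgroup G) := fun Q => by
    rw [Q.card_eq_multiplicity, (P p).card_eq_multiplicity]
  calc (f p).card = Nat.card {g : G // orderOf g = p} := by
        rw [Nat.card_eq_fintype_card, Fintype.card_subtype]
    _ ≤ Nat.card (Σ Q : Sylow p G, (Q : Subgroup G)) := by
        refine Nat.card_le_card_of_injective (fun g : {g : G // orderOf g = p} =>
          ⟨((IsPGroup.of_card (n := 1)
            (by rw [Nat.card_zpowers, g.2, pow_one]) : IsPGroup p (Subgroup.zpowers g.1))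
              ).exists_le_sylow.choose,
            g.1, ((IsPGroup.of_card (n := 1)
            (by rw [Nat.card_zpowers, g.2, pow_one]) : IsPGroup p (Subgroup.zpowers g.1))
              ).exists_le_sylow.choose_spec (Subgroup.mem_zpowers g.1)⟩) fun a b hab => ?_
        exact Subtype.ext (congrArg (fun s : Σ Q : Sylow p G, (Q : Subgroup G) => (s.2 : G)) hab)
    _ = Nat.card (Sylow p G) * Nat.card (P p : Subgroup G) := by
        have := Fintype.ofFinite (Sylow p G)
        rw [Nat.card_sigma, Finset.sum_congr rfl fun Q _ => hc Q, Finset.sum_const,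
          Finset.card_univ, smul_eq_mul, ← Nat.card_eq_fintype_card]

/-- A finite group of odd order with all element orders prime and at most three prime divisors of
the order is solvable. -/
theorem isSolvable_of_odd (n : ℕ) : ∀ {G : Type u} [Group G] [Finite G], Nat.card G = n → Odd n →
    HasPrimeOrders G → n.primeFactors.card ≤ 3 → Group.IsSolvable G := by
  induction n using Nat.strongRecOn with | ind n ih => ?_
  intro G _ _ hcard hodd h h3
  classical
  by_contra hns
  have hsub : ∀ m : ℕ, m ∣ n → m.primeFactors.card ≤ 3 := fun m hm =>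
    (Finset.card_le_card (Nat.primeFactors_mono hm (hcard ▸ Nat.card_pos.ne'))).trans h3
  have hproper : ∀ H : Subgroup G, H ≠ ⊤ → Group.IsSolvable H := by
    intro H hH
    have hlt : Nat.card H < n := hcard ▸ lt_of_le_of_ne
      (Nat.le_of_dvd Nat.card_pos H.card_subgroup_dvd_card)
      (fun he => hH (Subgroup.eq_top_of_card_eq H he))
    have hd : Nat.card H ∣ n := hcard ▸ H.card_subgroup_dvd_card
    exact ih _ hlt rfl (Odd.of_dvd_nat hodd hd) (h.of_injective H.subtype H.subtype_injective)
      (hsub _ hd)
  have : Nontrivial G := not_subsingleton_iff_nontrivial.1 fun hs =>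
    hns (Group.isSolvable_of_comm fun a b => Subsingleton.elim _ _)
  have hsimple : IsSimpleGroup G := by
    refine ⟨fun N hN => ?_⟩
    by_contra! hcon
    apply hns
    have := hN
    have : Group.IsSolvable N := hproper N hcon.2
    have : Group.IsSolvable (G ⧸ N) := by
      have hd : Nat.card (G ⧸ N) ∣ n := hcard ▸ Subgroup.card_quotient_dvd_card N
      have hlt : Nat.card (G ⧸ N) < n := by
        have h1 : 1 < Nat.card N := N.one_lt_card_iff_ne_bot.2 hcon.1
        have h2 := Subgroup.card_eq_card_quotient_mul_card_subgroup N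
        have h4 : 0 < Nat.card (G ⧸ N) := Nat.card_pos
        rw [← hcard, h2]
        exact lt_mul_of_one_lt_right h4 h1
      exact ih _ hlt rfl (Odd.of_dvd_nat hodd hd)
        (h.of_surjective (QuotientGroup.mk' N) (QuotientGroup.mk'_surjective N)) (hsub _ hd)
    exact (Group.isSolvable_iff_subgroup_quotient N).2 ⟨inferInstance, inferInstance⟩
  have hmin : Cfsg.IsMinSimpleOddOrder G :=
    ⟨hcard ▸ hodd, hsimple, fun hc => hns (Group.isSolvable_of_comm hc.is_comm.comm), hproper⟩
  have hthree : n.primeFactors.card = 3 := le_antisymm h3 <| by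
    by_contra hlt
    exact hns (isSolvable_of_primeFactors_card_le_two (by rw [hcard]; omega))
  let P : (p : ℕ) → Sylow p G := fun p => default
  -- each Sylow subgroup has index at least three (five if `p = 3`) in its normalizer
  have key : ∀ p ∈ n.primeFactors, ∃ e : ℕ,
      Nat.card (Sylow p G) * Nat.card (P p : Subgroup G) * e = n ∧ e ≠ 1 ∧ ¬ p ∣ e ∧ e ∣ n := by
    intro p hp
    have hpp := Nat.prime_of_mem_primeFactors hp
    have := Fact.mk hpp
    set Q : Subgroup G := (P p : Subgroup G) with hQ
    have hQne : Q ≠ ⊥ := (P p).ne_bot_of_dvd_card (hcard ▸ Nat.dvd_of_mem_primeFactors hp)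
    have hmax : ∀ L : Subgroup G, Group.IsNilpotent L → Q ≤ L → L = Q := by
      intro L hL hQL
      have : Nontrivial Q := (Subgroup.nontrivial_iff_ne_bot Q).2 hQne
      have : Nontrivial L := (Subgroup.nontrivial_iff_ne_bot L).2 (ne_bot_of_le_ne_bot hQne hQL)
      obtain ⟨z, hz, hz1⟩ := (Subgroup.center L).bot_or_exists_ne_one.resolve_left
        (Group.IsNilpotent.center_ne_bot L)
      have hzne : (z : G) ≠ 1 := fun h1 => hz1 (Subtype.ext h1)
      have hle : L ≤ Subgroup.centralizer ({(z : G)} : Set G) := fun x hx =>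
        Subgroup.mem_centralizer_singleton_iff.2
          (congrArg Subtype.val (Subgroup.mem_center_iff.1 hz ⟨x, hx⟩))
      have := Fact.mk ((h (z : G)).resolve_left hzne)
      have hq := (h.isPGroup_centralizer hzne).to_le hle
      obtain ⟨x, hx⟩ := exists_prime_orderOf_dvd_card' (G := Q) p
        ((P p).dvd_card_of_dvd_card (hcard ▸ Nat.dvd_of_mem_primeFactors hp))
      obtain ⟨k, hk⟩ := IsPGroup.iff_orderOf.1 hq (Subgroup.inclusion hQL x)
      rw [orderOf_injective _ (Subgroup.inclusion_injective hQL), hx] at hk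
      have hpq : p = orderOf (z : G) := (Nat.prime_dvd_prime_iff_eq hpp Fact.out).1
        (hpp.dvd_of_dvd_pow hk.dvd)
      rw [← hpq] at hq
      exact (P p).is_maximal' hq hQL
    obtain ⟨-, -, -, E, hE, hE1, -⟩ :=
      (Cfsg.Agent.S1479.result hmin h.isCNGroup).1 Q (P p).isPGroup'.isNilpotent hmax
    refine ⟨(Q.subgroupOf (Subgroup.normalizer (Q : Set G))).index, ?_, ?_, ?_, ?_⟩
    · rw [← hcard, (P p).card_eq_index_normalizer, ← Subgroup.index_mul_card Q,
        ← Subgroup.relIndex_mul_index (Subgroup.le_normalizer (H := Q))]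
      rw [Subgroup.relIndex]
      show (Subgroup.normalizer (Q : Set G)).index * _ * _ = _
      ring
    · intro h1
      rw [Subgroup.index_eq_one, Subgroup.subgroupOf_eq_top] at h1
      apply hE1
      rw [eq_bot_iff, ← hE.2.2.1]
      exact le_inf (hE.2.1.trans h1) le_rfl
    · intro hd
      refine (P p).not_dvd_index (hd.trans ?_)
      rw [← Subgroup.relIndex_mul_index (Subgroup.le_normalizer (H := Q))]
      exact dvd_mul_right _ _
    · rw [← hcard]
      exact (Subgroup.index_dvd_card _).trans (Subgroup.card_subgroup_dvd_card _)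
  have hbound : ∀ p ∈ n.primeFactors,
      15 * (Nat.card (Sylow p G) * Nat.card (P p : Subgroup G)) ≤ (if p = 3 then 3 else 5) * n := by
    intro p hp
    obtain ⟨e, he, he1, hpe, hen⟩ := key p hp
    obtain ⟨q, hq, hqe⟩ := Nat.exists_prime_and_dvd he1
    have hqn : Odd q := Odd.of_dvd_nat hodd (hqe.trans hen)
    have he0 : e ≠ 0 := fun h0 => by rw [h0, mul_zero] at he; exact Nat.card_pos.ne' (hcard.trans he.symm)
    have hqe' := Nat.le_of_dvd (Nat.pos_of_ne_zero he0) hqe
    obtain ⟨c, hc⟩ := hqn
    split_ifs with hp3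
    · have : q ≠ 3 := fun h => hpe (hp3 ▸ h ▸ hqe)
      have := hq.two_le
      have : 5 ≤ e := by omega
      calc 15 * _ = 3 * (Nat.card (Sylow p G) * Nat.card (P p : Subgroup G) * 5) := by ring
        _ ≤ 3 * n := by rw [← he]; gcongr
    · have := hq.two_le
      have : 3 ≤ e := by omega
      calc 15 * _ = 5 * (Nat.card (Sylow p G) * Nat.card (P p : Subgroup G) * 3) := by ring
        _ ≤ 5 * n := by rw [← he]; gcongr
  have htot := h.card_le P
  rw [hcard] at htot
  have hsum : 15 * ∑ p ∈ n.primeFactors, Nat.card (Sylow p G) * Nat.card (P p : Subgroup G) ≤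
      (∑ p ∈ n.primeFactors, if p = 3 then 3 else 5) * n := by
    rw [Finset.mul_sum, Finset.sum_mul]
    exact Finset.sum_le_sum hbound
  obtain ⟨a, b, c, hab, hac, hbc, habc⟩ := Finset.card_eq_three.1 hthree
  have hn0 : 0 < n := hcard ▸ Nat.card_pos
  have hdvd : a * b * c ∣ n := by
    have h1 := Nat.prod_primeFactors_dvd n
    rw [habc] at h1
    simpa [Finset.prod_insert, hab, hac, hbc, mul_assoc] using h1
  have hge : 27 ≤ n := by
    have hge3 : ∀ p ∈ n.primeFactors, 3 ≤ p := fun p hp => by
      have := (Nat.prime_of_mem_primeFactors hp).two_le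
      obtain ⟨k, hk⟩ := Odd.of_dvd_nat hodd (Nat.dvd_of_mem_primeFactors hp)
      omega
    calc 27 = 3 * 3 * 3 := rfl
      _ ≤ a * b * c := by
        gcongr
        · exact hge3 a (by rw [habc]; simp)
        · exact hge3 b (by rw [habc]; simp)
        · exact hge3 c (by rw [habc]; simp)
      _ ≤ n := Nat.le_of_dvd hn0 hdvd
  by_cases h3mem : 3 ∈ n.primeFactors
  · rw [← Finset.add_sum_erase _ (fun p : ℕ => if p = 3 then 3 else 5) h3mem,
      Finset.sum_congr rfl (fun p hp => if_neg (Finset.ne_of_mem_erase hp)), Finset.sum_const,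
      Finset.card_erase_of_mem h3mem, hthree] at hsum
    simp at hsum
    omega
  · -- without the prime `3` every index is at least `5`
    have hbound' : ∀ p ∈ n.primeFactors,
        5 * (Nat.card (Sylow p G) * Nat.card (P p : Subgroup G)) ≤ n := by
      intro p hp
      obtain ⟨e, he, he1, hpe, hen⟩ := key p hp
      obtain ⟨q, hq, hqe⟩ := Nat.exists_prime_and_dvd he1
      have he0 : e ≠ 0 := fun h0 => by rw [h0, mul_zero] at he; exact Nat.card_pos.ne' (hcard.trans he.symm)
      have hqn : q ∈ n.primeFactors :=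
        Nat.mem_primeFactors.2 ⟨hq, hqe.trans hen, hn0.ne'⟩
      have h3q : q ≠ 3 := fun h => h3mem (h ▸ hqn)
      obtain ⟨k, hk⟩ := Odd.of_dvd_nat hodd (Nat.dvd_of_mem_primeFactors hqn)
      have := Nat.le_of_dvd (Nat.pos_of_ne_zero he0) hqe
      have := hq.two_le
      calc 5 * _ = Nat.card (Sylow p G) * Nat.card (P p : Subgroup G) * 5 := by ring
        _ ≤ _ := by conv_rhs => rw [← he]
                    exact Nat.mul_le_mul_left _ (by omega)
    have h5 := Finset.sum_le_card_nsmul _ _ _ hbound'
    rw [← Finset.mul_sum, hthree, smul_eq_mul] at h5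
    omega

end CfsgLib.PrimeOrders
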