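import Cfsg.Agent.PrimeOrders.Basic
import Cfsg.Agent.S2202
import Cfsg.Agent.S0252
import Cfsg.Agent.Linear.SL2Sylow
import Cfsg.Agent.Linear.Basic

/-!
A non-solvable finite group with all element orders prime and at most three prime divisors of the
order is `A₅`.
-/

set_option autoImplicit false

namespace CfsgLib.PrimeOrders

open scoped MatrixGroups

theorem HasPrimeOrders.exponent_of_isPGroup {G : Type*} [Group G] (h : HasPrimeOrders G) {p : ℕ}
    [hp : Fact p.Prime] {H : Subgroup G} (hH : IsPGroup p H) (x : H) : x ^ p = 1 := by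
  obtain ⟨k, hk⟩ := IsPGroup.iff_orderOf.1 hH x
  rcases (h.of_injective H.subtype H.subtype_injective) x with hx | hx
  · rw [hx, one_pow]
  · rw [hk] at hx
    rw [← orderOf_dvd_iff_pow_eq_one, hk, Nat.Prime.eq_one_of_pow hx, pow_one]

theorem equiv_alternating_five_SL2 {F : Type} [Field F] [Fintype F] [CharP F 2]
    (hG : HasPrimeOrders SL(2, F))
    (hcard : (Nat.card SL(2, F)).primeFactors.card = 3) :
    Nonempty (SL(2, F) ≃* alternatingGroup (Fin 5)) := by
  classical
  obtain ⟨n, hp2, hq⟩ := FiniteField.card F 2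
  set q := Fintype.card F with hqdef
  have hn : 0 < (n : ℕ) := n.pos
  have hcard' : Nat.card SL(2, F) = q * ((q - 1) * (q + 1)) := by
    rw [Linear.card_SL_two, ← hqdef, Nat.mul_comm (q - 1), ← Nat.sq_sub_sq, one_pow]
  have hq2 : 2 ≤ q := hq ▸ Nat.le_self_pow n.pos.ne' 2
  -- an odd prime divisor of the order occurs to the first power
  have hfirst : ∀ r : ℕ, r.Prime → r ≠ 2 → (Nat.card SL(2, F)).factorization r ≤ 1 := by
    intro r hr hr2
    have := Fact.mk hr
    obtain ⟨R⟩ : Nonempty (Sylow r SL(2, F)) := inferInstance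
    have := Linear.isCyclic_of_isPGroup 2 hr2 hr2 (R : Subgroup SL(2, F)) R.isPGroup'
    obtain ⟨g, hg⟩ := IsCyclic.exists_generator (α := (R : Subgroup SL(2, F)))
    have h1 : Nat.card (R : Subgroup SL(2, F)) ∣ r ^ 1 := by
      rw [← orderOf_eq_card_of_forall_mem_zpowers hg, pow_one]
      exact orderOf_dvd_of_pow_eq_one (hG.exponent_of_isPGroup R.isPGroup' g)
    rw [R.card_eq_multiplicity] at h1
    exact (Nat.pow_dvd_pow_iff_le_right hr.one_lt).1 h1
  have heven : 2 ∣ q := hq ▸ dvd_pow_self 2 n.pos.ne'
  have hq4 : q ≠ 2 := by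
    intro h2
    rw [hcard', h2] at hcard
    have : (2 * ((2 - 1) * (2 + 1))).primeFactors = {2, 3} := by
      rw [show 2 * ((2 - 1) * (2 + 1)) = 2 * 3 by norm_num, Nat.primeFactors_mul (by norm_num)
        (by norm_num), Nat.Prime.primeFactors Nat.prime_two, Nat.Prime.primeFactors Nat.prime_three]
      rfl
    rw [this] at hcard
    simp at hcard
  obtain ⟨c, hc⟩ := heven
  have hm : q - 1 ≠ 0 := by omega
  have hcop : (q - 1).Coprime (q + 1) := by
    rw [show q + 1 = q - 1 + 2 by omega, Nat.coprime_self_add_right, Nat.coprime_two_right,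
      Nat.odd_iff]
    omega
  -- both `q - 1` and `q + 1` are prime
  have hpf : (q - 1).primeFactors.card + (q + 1).primeFactors.card = 2 := by
    rw [hcard', Nat.primeFactors_mul (by omega) (mul_ne_zero hm (by omega)),
      Nat.primeFactors_mul hm (by omega), hq, Nat.primeFactors_prime_pow n.pos.ne' Nat.prime_two,
      Finset.card_union_of_disjoint, Finset.card_singleton,
      Finset.card_union_of_disjoint (by rw [← hq]; exact hcop.disjoint_primeFactors)] at hcard
    · rw [← hq] at hcard
      omega
    · rw [← hq, Finset.disjoint_singleton_left, Finset.mem_union, not_or]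
      constructor <;>
      · intro h2
        have := Nat.dvd_of_mem_primeFactors h2
        omega
  have hone : ∀ m : ℕ, 2 ≤ m → 0 < m.primeFactors.card := fun m hm2 => by
    rw [Finset.card_pos]
    exact Nat.nonempty_primeFactors.2 hm2
  have hprime : ∀ m : ℕ, 2 ≤ m → m.primeFactors.card = 1 → ¬ 2 ∣ m → m ∣ Nat.card SL(2, F) →
      m.Prime := by
    intro m hm2 hm1 hodd hdvd
    obtain ⟨r, hr⟩ := Finset.card_eq_one.1 hm1
    have hrp : r.Prime := Nat.prime_of_mem_primeFactors (by rw [hr]; simp)
    have hrd : r ∣ m := Nat.dvd_of_mem_primeFactors (by rw [hr]; simp)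
    suffices hmr : m ∣ r by
      rwa [Nat.dvd_antisymm hmr hrd]
    rw [← Nat.factorization_prime_le_iff_dvd (by omega) hrp.ne_zero]
    intro s hs
    by_cases hsm : s ∈ m.primeFactors
    · rw [hr, Finset.mem_singleton] at hsm
      subst hsm
      rw [hrp.factorization_self]
      have hle : m.factorization s ≤ (Nat.card SL(2, F)).factorization s :=
        (Nat.factorization_le_iff_dvd (by omega) Nat.card_pos.ne').2 hdvd s
      exact hle.trans (hfirst s hrp (fun h => hodd (h ▸ hrd)))
    · rw [← Nat.support_factorization, Finsupp.notMem_support_iff] at hsm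
      rw [hsm]; exact Nat.zero_le _
  have h1 := hone (q - 1) (by omega)
  have h2 := hone (q + 1) (by omega)
  have hp1 : (q - 1).Prime := hprime _ (by omega) (by omega) (by omega)
    (hcard' ▸ Dvd.intro (q * (q + 1)) (by ring))
  have hp3 : (q + 1).Prime := hprime _ (by omega) (by omega) (by omega)
    (hcard' ▸ Dvd.intro (q * (q - 1)) (by ring))
  -- one of them is divisible by `3`
  have h3 : ¬ 3 ∣ q := fun h => by
    have := (Nat.prime_dvd_prime_iff_eq Nat.prime_three Nat.prime_two).1
      (Nat.prime_three.dvd_of_dvd_pow (hq ▸ h : 3 ∣ 2 ^ (n : ℕ)))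
    omega
  have hq' : q = 4 := by
    have : 3 ∣ q - 1 ∨ 3 ∣ q + 1 := by
      have hm3 : q % 3 = 1 ∨ q % 3 = 2 := by omega
      rcases hm3 with h | h
      · left; omega
      · right; omega
    rcases this with h | h
    · have := (Nat.prime_dvd_prime_iff_eq Nat.prime_three hp1).1 h; omega
    · have := (Nat.prime_dvd_prime_iff_eq Nat.prime_three hp3).1 h; omega
  have hbot : Subgroup.center SL(2, F) = ⊥ := by
    rw [← Subgroup.card_eq_one, Linear.card_center_SL, Fintype.card_fin, ← hqdef, hq']
    rfl
  let e2 : SL(2, F) ≃* Matrix.ProjectiveSpecialLinearGroup (Fin 2) F :=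
    MulEquiv.ofBijective (QuotientGroup.mk' (Subgroup.center SL(2, F)))
      ⟨(MonoidHom.ker_eq_bot_iff _).1 (by rw [QuotientGroup.ker_mk', hbot]),
        QuotientGroup.mk'_surjective _⟩
  obtain ⟨e⟩ := Cfsg.Agent.S0252.result (F := F) hq'
  exact ⟨e2.trans e⟩

/-- A non-solvable finite group with all element orders prime and at most three prime divisors of
the order is `A₅`. -/
theorem nonempty_equiv_alternating_five {G : Type*} [Group G] [Finite G]
    (h : HasPrimeOrders G) (h3 : (Nat.card G).primeFactors.card ≤ 3)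
    (hns : ¬ Group.IsSolvable G) : Nonempty (G ≃* alternatingGroup (Fin 5)) := by
  classical
  have := Fact.mk Nat.prime_two
  have heven : Even (Nat.card G) := by
    by_contra hodd
    exact hns (isSolvable_of_odd _ rfl (Nat.not_even_iff_odd.1 hodd) h h3)
  have h2n : (2 : ℕ) ∈ (Nat.card G).primeFactors :=
    Nat.mem_primeFactors.2 ⟨Nat.prime_two, heven.two_dvd, Nat.card_pos.ne'⟩
  -- groups whose order omits one of the primes are solvable
  have hsolv : ∀ {H : Type _} [Group H] [Finite H], Nat.card H ∣ Nat.card G → ¬ 2 ∣ Nat.card H →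
      Group.IsSolvable H := by
    intro H _ _ hd h2
    refine isSolvable_of_primeFactors_card_le_two (Nat.le_of_lt_succ ?_)
    refine lt_of_lt_of_le (Finset.card_lt_card ((Finset.ssubset_iff_of_subset
      (Nat.primeFactors_mono hd Nat.card_pos.ne')).2
        ⟨2, h2n, fun hm => h2 (Nat.dvd_of_mem_primeFactors hm)⟩)) h3
  have hab : ∀ t : G, orderOf t = 2 →
      IsMulCommutative ↥(Subgroup.centralizer ({t} : Set G)) := by
    intro t ht
    have ht1 : t ≠ 1 := fun h1 => by rw [h1, orderOf_one] at ht; omega
    have hp : IsPGroup 2 (Subgroup.centralizer ({t} : Set G)) := ht ▸ h.isPGroup_centralizer ht1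
    refine ⟨⟨fun a b => ?_⟩⟩
    have hinv : ∀ x : Subgroup.centralizer ({t} : Set G), x⁻¹ = x := fun x =>
      inv_eq_of_mul_eq_one_right (by rw [← sq]; exact h.exponent_of_isPGroup hp x)
    rw [← hinv (a * b), mul_inv_rev, hinv, hinv]
  rcases Cfsg.Agent.S2202.result heven hab with hcyc | hnorm |
    ⟨F, _, _, A, _, _, hF, hA, ⟨e⟩⟩
  · exfalso
    apply hns
    obtain ⟨P⟩ : Nonempty (Sylow 2 G) := inferInstance
    have hP : Nat.minFac (Nat.card G) = 2 := (Nat.minFac_eq_two_iff _).2 heven.two_dvd
    have hcompl := IsCyclic.isComplement' hP (hcyc P)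
    set K := (MonoidHom.transferSylow P
      ((hcyc P).normalizer_le_centralizer hP)).ker
    have : Group.IsSolvable K := by
      refine hsolv K.card_subgroup_dvd_card ?_
      rw [← hcompl.index_eq_card]
      exact P.not_dvd_index
    have : Group.IsSolvable (G ⧸ K) := by
      have hc : Nat.card (G ⧸ K) = Nat.card (P : Subgroup G) := by
        rw [← Subgroup.index_eq_card, hcompl.symm.index_eq_card]
      have hpg : IsPGroup 2 (G ⧸ K) :=
        IsPGroup.of_card (hc.trans P.card_eq_multiplicity)
      have := hpg.isNilpotent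
      infer_instance
    exact (Group.isSolvable_iff_subgroup_quotient K).2 ⟨inferInstance, inferInstance⟩
  · exfalso
    apply hns
    obtain ⟨P⟩ : Nonempty (Sylow 2 G) := inferInstance
    have := hnorm P
    have := P.isPGroup'.isNilpotent
    have : Group.IsSolvable (G ⧸ (P : Subgroup G)) :=
      hsolv (Subgroup.card_quotient_dvd_card _) (by
        rw [← Subgroup.index_eq_card]; exact P.not_dvd_index)
    exact (Group.isSolvable_iff_subgroup_quotient (P : Subgroup G)).2
      ⟨inferInstance, inferInstance⟩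
  · have hSA := h.of_surjective e.toMonoidHom e.surjective
    have hA1 : ∀ a : A, a = 1 := by
      by_contra! hcon
      obtain ⟨a, ha⟩ := hcon
      obtain ⟨x, hx⟩ := exists_prime_orderOf_dvd_card' (G := SL(2, F)) 2 (by
        obtain ⟨n, -, hn⟩ := FiniteField.card F 2
        rw [Linear.card_SL_two, hn]
        exact (dvd_pow_self 2 n.pos.ne').mul_right _)
      have hord : orderOf ((x, a) : SL(2, F) × A) = 2 * orderOf a := by
        rw [Prod.orderOf_mk, hx]
        exact (Nat.coprime_two_left.2 (Odd.of_dvd_nat hA (orderOf_dvd_natCard a))).lcm_eq_mul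
      rcases hSA (x, a) with h1 | h1
      · rw [h1, orderOf_one] at hord; omega
      · rw [hord, Nat.prime_mul_iff] at h1
        rcases h1 with ⟨-, h1⟩ | ⟨-, h1⟩
        · exact ha (orderOf_eq_one_iff.1 h1)
        · omega
    have : Subsingleton A := ⟨fun a b => (hA1 a).trans (hA1 b).symm⟩
    let e1 : G ≃* SL(2, F) :=
      MulEquiv.ofBijective ((MonoidHom.fst _ _).comp e.toMonoidHom)
        ⟨fun x y hxy => e.injective (Prod.ext hxy (Subsingleton.elim _ _)),
          fun s => ⟨e.symm (s, 1), by simp⟩⟩
    have := hF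
    have hthree : (Nat.card SL(2, F)).primeFactors.card = 3 := by
      rw [← Nat.card_congr e1.toEquiv]
      refine le_antisymm h3 ?_
      by_contra hlt
      exact hns (isSolvable_of_primeFactors_card_le_two (by omega))
    obtain ⟨e5⟩ := equiv_alternating_five_SL2 (h.of_surjective e1.toMonoidHom e1.surjective) hthree
    exact ⟨e1.trans e5⟩

end CfsgLib.PrimeOrders
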